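import Cfsg.Agent.H97.Minus.Table
import Cfsg.Agent.H97.Refl3.Class
import Cfsg.Agent.H7Fischer.Models

/-!
Fischer's theorem: the elliptic orthogonal transvection class of dimension six over the field with
two elements is the class of reflections of norm one of a five-dimensional space over the field
with three elements.
-/

set_option autoImplicit false
set_option linter.unusedSectionVars false

namespace Cfsg.Agent.H97.Minus

open Cfsg QuadraticMap
open Cfsg.Agent.Orthogonal (Nondeg O rO rO_app formMinus reflIso toO)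
open H76.LocallyS3 (cj)
open H7Fischer (refl3 IsoTo IsOrthThree orthTv)

/-- The form over the field with two elements. -/
noncomputable abbrev qm : QuadraticForm (ZMod 2) (I → ZMod 2) := formMinus (ZMod 2) 2 1 1

/-- The form over the field with three elements. -/
noncomputable def q3 : QuadraticForm (ZMod 3) (Fin 5 → ZMod 3) :=
  QuadraticMap.weightedSumSquares (ZMod 3) (![1, 1, 1, 1, -1] : Fin 5 → ZMod 3)

theorem qm_apply (x : I → ZMod 2) : qm x = e2 x := by
  show Cfsg.quadFormMinus 2 (ZMod 2) 1 1 x = _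
  simp only [Cfsg.quadFormMinus, Fin.sum_univ_two, e2]
  ring

theorem q3_apply (x : Fin 5 → ZMod 3) : q3 x = e3 x := by
  simp only [q3, QuadraticMap.weightedSumSquares_apply, Fin.sum_univ_five, e3, smul_eq_mul]
  simp
  ring

theorem polar_qm (x y : I → ZMod 2) : polar qm x y = p2 x y := by
  simp only [polar, qm_apply, e2, p2, Pi.add_apply]
  ring_nf
  simp [show (2 : ZMod 2) = 0 from rfl]

theorem polar_q3 (x y : Fin 5 → ZMod 3) : polar q3 x y = p3 x y := by
  simp only [polar, q3_apply, e3, p3, Pi.add_apply]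
  ring

theorem nondeg_qm : Nondeg qm := by
  intro x hx
  have h : ∀ x : I → ZMod 2, (∀ s : I, p2 x (Pi.single s 1) = 0) → x = 0 := by decide +kernel
  exact h x fun s => by rw [← polar_qm]; exact hx _

theorem nondeg_q3 : Nondeg q3 := by
  intro x hx
  have h : ∀ x : Fin 5 → ZMod 3, (∀ s : Fin 5, p3 x (Pi.single s 1) = 0) → x = 0 := by
    decide +kernel
  exact h x fun s => by rw [← polar_q3]; exact hx _

theorem det_q3 : Cfsg.polarGramDet (⇑q3) = 1 := by
  unfold Cfsg.polarGramDet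
  rw [show (Matrix.of fun i j : Fin 5 => polar q3 (Pi.single i 1) (Pi.single j 1)) =
    Matrix.diagonal (![2, 2, 2, 2, 1] : Fin 5 → ZMod 3) from ?_, Matrix.det_diagonal,
    Fin.prod_univ_five]
  · rfl
  · have key : ∀ i j : Fin 5, p3 (Pi.single i 1) (Pi.single j 1) =
        if i = j then (![2, 2, 2, 2, 1] : Fin 5 → ZMod 3) i else 0 := by decide +kernel
    ext i j
    rw [Matrix.of_apply, polar_q3, key, Matrix.diagonal_apply]

/-- The member of the class over the field with three elements. -/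
noncomputable def m3 (i : Fin 36) : Refl3.PGrp q3 (1 : ZMod 3) :=
  Refl3.pt (Q := q3) (c := 1) (v := v3 i) (by rw [q3_apply]; exact e3_v3 i)

/-- The member of the class over the field with two elements. -/
noncomputable def m2 (i : Fin 36) : ↥(Cfsg.isometryGroup (ZMod 2) (⇑qm)) := reflIso qm (v2 i)

theorem toO_m2 (i : Fin 36) : toO qm (m2 i) = rO qm (v2 i) := MulEquiv.apply_symm_apply _ _

theorem qm_v2 (i : Fin 36) : qm (v2 i) = 1 := by rw [qm_apply]; exact e2_v2 i

theorem app_m2 (i : Fin 36) (x : I → ZMod 2) :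
    (rO qm (v2 i) : (I → ZMod 2) ≃ₗ[ZMod 2] (I → ZMod 2)) x = x + p2 (v2 i) x • v2 i := by
  rw [rO_app, qm_v2, inv_one, one_mul, polar_qm, sub_eq_add_neg]
  congr 1
  funext s
  exact ZMod.neg_eq_self_mod_two _

theorem eq_of_rO {i j : Fin 36} (h : rO qm (v2 i) = rO qm (v2 j)) : i = j := by
  have key : ∀ i j, (∀ s : I, p2 (v2 i) (Pi.single s 1) • v2 i = p2 (v2 j) (Pi.single s 1) • v2 j) →
      i = j := by decide +kernel
  refine key i j fun s => ?_
  have := congrArg (fun g : O qm => (g : (I → ZMod 2) ≃ₗ[ZMod 2] (I → ZMod 2)) (Pi.single s 1)) h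
  simpa [app_m2] using this

theorem mem_orthTv (g : ↥(Cfsg.isometryGroup (ZMod 2) (⇑qm))) :
    g ∈ orthTv (⇑qm) ↔ ∃ i, m2 i = g := by
  show _ = 1 ↔ _
  rw [H44.rank_sub_one_iff nondeg_qm]
  constructor
  · rintro ⟨v, hv, hg⟩
    obtain ⟨i, rfl⟩ := v2_complete v (by rw [← qm_apply]; exact hv)
    exact ⟨i, (toO qm).injective (by rw [toO_m2, hg])⟩
  · rintro ⟨i, rfl⟩
    exact ⟨v2 i, qm_v2 i, toO_m2 i⟩

theorem isoTo_refl3 : IsoTo (orthTv (⇑qm)) (refl3 q3 1) := by
  classical
  have hn : (5 : ℕ) ≤ 5 := le_rfl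
  have hc : (1 : ZMod 3) ≠ 0 := one_ne_zero
  have hcl := H44.isThreeTranspositionClass_transvections nondeg_qm (by simp)
    ⟨_, qm_v2 0⟩
  have H' := Refl3.cls_refl3 nondeg_q3 hc hn
  let e : Fin 36 ≃ ↥(orthTv (⇑qm)) := Equiv.ofBijective (fun i => ⟨m2 i, (mem_orthTv _).2 ⟨i, rfl⟩⟩)
    ⟨fun i j h => eq_of_rO (by
        rw [← toO_m2, ← toO_m2]
        exact congrArg (toO qm) (congrArg Subtype.val h)),
      fun g => by
        obtain ⟨i, hi⟩ := (mem_orthTv _).1 g.2
        exact ⟨i, Subtype.ext hi⟩⟩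
  let e' : Fin 36 ≃ ↥(refl3 q3 (1 : ZMod 3)) :=
    Equiv.ofBijective (fun i => ⟨m3 i, Refl3.pt_mem _⟩) ⟨fun i j h => ?_, fun g => ?_⟩
  rotate_left
  · refine v3_injective i j ?_
    rcases (Refl3.pt_eq_iff nondeg_q3 hc hn _ _).1 (congrArg Subtype.val h) with q | q
    · exact Or.inl q.symm
    · exact Or.inr (by rw [q, neg_neg])
  · obtain ⟨v, hv, hg⟩ := Refl3.exists_pt g.2
    obtain ⟨i, hi⟩ := v3_complete v (by rw [← q3_apply]; exact hv)
    refine ⟨i, Subtype.ext ?_⟩
    rw [← hg]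
    refine (Refl3.pt_eq_iff nondeg_q3 hc hn _ _).2 ?_
    rcases hi with q | q
    · exact Or.inl q.symm
    · exact Or.inr (by rw [q, neg_neg])
  refine H7Fischer.isoTo_of_equivariant hcl.2.2 H'.cl.2.2 ?_ (fun g hg => H'.eq_one_of_fix hg)
    (fun a ha => H44.tt_mul_self hcl.1 ha) (fun a ha => H'.sq ha)
    (fun a _ b hb => H44.tt_invariant hcl a hb) (e.symm.trans e') ?_
  · intro g hg
    refine (toO qm).injective (Orthogonal.O.ext_app fun x => ?_)
    rw [map_one, Subgroup.coe_one, Orthogonal.one_app]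
    set f : (I → ZMod 2) ≃ₗ[ZMod 2] (I → ZMod 2) :=
      ((toO qm g : O qm) : (I → ZMod 2) ≃ₗ[ZMod 2] (I → ZMod 2)) with hf
    have hfix : ∀ i, f (v2 i) = v2 i := fun i => by
      have hi := hg _ ((mem_orthTv _).2 ⟨i, rfl⟩)
      have h1 := congrArg (toO qm) hi
      rw [cj, map_mul, map_mul, map_inv, toO_m2, Orthogonal.conj_rO] at h1
      obtain ⟨k, hk⟩ := v2_complete (f (v2 i)) (by rw [← qm_apply, hf, Orthogonal.O.map_app, qm_v2])
      rw [← hf, ← hk] at h1
      rw [← hk, eq_of_rO h1]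
    have hs : ∀ s : I, f (Pi.single s 1) = Pi.single s 1 := fun s => by
      obtain ⟨i, j, h | h⟩ := spanning s <;> rw [h] <;> simp [map_add, hfix]
    have hlin : (f : (I → ZMod 2) →ₗ[ZMod 2] (I → ZMod 2)) = LinearMap.id :=
      LinearMap.pi_ext' fun s => LinearMap.ext_ring (by simpa using hs s)
    exact LinearMap.congr_fun hlin x
  · intro a b
    obtain ⟨i, rfl⟩ := e.surjective a
    obtain ⟨j, rfl⟩ := e.surjective b
    have h2 : cj (m2 i) (m2 j) = m2 (third i j) := by
      apply (toO qm).injective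
      rw [cj, map_mul, map_mul, map_inv, toO_m2, toO_m2, toO_m2, Orthogonal.conj_rO, app_m2,
        third_two]
    obtain ⟨hw, h3⟩ := Refl3.cj_pt nondeg_q3 hc (Q := q3) (u := v3 i) (v := v3 j)
      (by rw [q3_apply]; exact e3_v3 i) (by rw [q3_apply]; exact e3_v3 j)
    have hsub : (⟨cj (e i : ↥(Cfsg.isometryGroup (ZMod 2) (⇑qm))) (e j),
        H44.tt_invariant hcl _ (e j).2⟩ : ↥(orthTv (⇑qm))) = e (third i j) := Subtype.ext h2
    show ((e.symm.trans e') _ : Refl3.PGrp q3 (1 : ZMod 3)) = _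
    rw [hsub]
    simp only [Equiv.trans_apply, Equiv.symm_apply_apply]
    show m3 (third i j) = cj (m3 i) (m3 j)
    rw [m3, m3, m3, h3]
    refine (Refl3.pt_eq_iff nondeg_q3 hc hn _ hw).2 ?_
    rw [rO_app, q3_apply, e3_v3, inv_one, one_mul, polar_q3]
    rcases third_three i j with q | q
    · exact Or.inl q.symm
    · exact Or.inr (by rw [q, neg_neg])

/-- The exception of the triangle branch. -/
theorem isOrthThree_five_of_orth_minus {G : Type*} [Group G] [Finite G] {D : Set G}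
    (h : IsoTo D (orthTv (Cfsg.quadFormMinus 2 (ZMod 2) 1 1))) :
    ∃ c : ZMod 3, IsOrthThree D 5 c c :=
  ⟨1, q3, nondeg_q3.polarBilin, det_q3, one_ne_zero, h.trans isoTo_refl3⟩

end Cfsg.Agent.H97.Minus
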