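import Mathlib

/-!
The thirty-six non-singular vectors of the elliptic quadratic space of dimension six over the field
with two elements matched with the thirty-six pairs of vectors of norm one of a five-dimensional
quadratic space over the field with three elements, compatibly with reflections.
-/

set_option autoImplicit false
set_option maxRecDepth 100000

namespace Cfsg.Agent.H97.Minus

/-- The index set of the six coordinates. -/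
abbrev I : Type := (Fin 2 ⊕ Fin 2) ⊕ Fin 2

/-- The position of a coordinate. -/
def idx : I → Fin 6
  | .inl (.inl 0) => 0
  | .inl (.inl 1) => 1
  | .inl (.inr 0) => 2
  | .inl (.inr 1) => 3
  | .inr 0 => 4
  | .inr 1 => 5

/-- Vectors of the space over the field with two elements, by position. -/
def a2 : Fin 36 → Fin 6 → ZMod 2 := ![
    ![0, 0, 0, 0, 0, 1], ![0, 0, 0, 0, 1, 0], ![0, 0, 0, 0, 1, 1], ![0, 0, 0, 1, 0, 1],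
    ![0, 0, 0, 1, 1, 0], ![0, 0, 0, 1, 1, 1], ![0, 0, 1, 0, 0, 1], ![0, 0, 1, 0, 1, 0],
    ![0, 0, 1, 0, 1, 1], ![0, 0, 1, 1, 0, 1], ![0, 0, 1, 1, 1, 0], ![0, 0, 1, 1, 1, 1],
    ![0, 1, 0, 0, 0, 1], ![0, 1, 0, 0, 1, 0], ![0, 1, 0, 0, 1, 1], ![0, 1, 0, 1, 0, 0],
    ![0, 1, 1, 0, 0, 1], ![0, 1, 1, 0, 1, 0], ![0, 1, 1, 0, 1, 1], ![0, 1, 1, 1, 0, 0],
    ![1, 0, 0, 0, 0, 1], ![1, 0, 0, 0, 1, 0], ![1, 0, 0, 0, 1, 1], ![1, 0, 0, 1, 0, 1],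
    ![1, 0, 0, 1, 1, 0], ![1, 0, 0, 1, 1, 1], ![1, 0, 1, 0, 0, 0], ![1, 0, 1, 1, 0, 0],
    ![1, 1, 0, 0, 0, 1], ![1, 1, 0, 0, 1, 0], ![1, 1, 0, 0, 1, 1], ![1, 1, 0, 1, 0, 0],
    ![1, 1, 1, 0, 0, 0], ![1, 1, 1, 1, 0, 1], ![1, 1, 1, 1, 1, 0], ![1, 1, 1, 1, 1, 1]]

/-- The matched vectors over the field with three elements. -/
def v3 : Fin 36 → Fin 5 → ZMod 3 := ![
    ![0, 0, 0, 1, 0], ![0, 0, 1, 1, 1], ![0, 0, 1, 2, 1], ![0, 0, 1, 0, 0], ![0, 0, 1, 1, 2],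
    ![0, 0, 1, 2, 2], ![1, 1, 0, 0, 1], ![1, 1, 2, 1, 0], ![1, 1, 2, 2, 0], ![1, 1, 0, 0, 2],
    ![1, 1, 1, 2, 0], ![1, 1, 1, 1, 0], ![0, 1, 2, 0, 1], ![0, 1, 0, 2, 2], ![0, 1, 0, 1, 2],
    ![0, 1, 1, 0, 1], ![1, 0, 2, 0, 1], ![1, 0, 0, 2, 2], ![1, 0, 0, 1, 2], ![1, 0, 1, 0, 1],
    ![1, 2, 0, 0, 2], ![1, 2, 1, 2, 0], ![1, 2, 1, 1, 0], ![1, 2, 0, 0, 1], ![1, 2, 2, 1, 0],
    ![1, 2, 2, 2, 0], ![1, 0, 0, 0, 0], ![0, 1, 0, 0, 0], ![1, 0, 1, 0, 2], ![1, 0, 0, 1, 1],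
    ![1, 0, 0, 2, 1], ![1, 0, 2, 0, 2], ![0, 1, 2, 0, 2], ![0, 1, 1, 0, 2], ![0, 1, 0, 1, 1],
    ![0, 1, 0, 2, 1]]

/-- The non-singular vectors over the field with two elements. -/
def v2 (i : Fin 36) : I → ZMod 2 := fun s => a2 i (idx s)

/-- The reflected member. -/
def thirdList : List (List ℕ) := [
  [0, 2, 1, 3, 5, 4, 6, 8, 7, 9, 11, 10, 12, 14, 13, 15, 16, 18, 17, 19, 20, 22, 21, 23, 25, 24,
    26, 27, 28, 30, 29, 31, 32, 33, 35, 34],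
  [2, 1, 0, 5, 4, 3, 8, 7, 6, 11, 10, 9, 14, 13, 12, 15, 18, 17, 16, 19, 22, 21, 20, 25, 24, 23,
    26, 27, 30, 29, 28, 31, 32, 35, 34, 33],
  [1, 0, 2, 4, 3, 5, 7, 6, 8, 10, 9, 11, 13, 12, 14, 15, 17, 16, 18, 19, 21, 20, 22, 24, 23, 25,
    26, 27, 29, 28, 30, 31, 32, 34, 33, 35],
  [0, 5, 4, 3, 2, 1, 6, 11, 10, 9, 8, 7, 15, 13, 14, 12, 19, 17, 18, 16, 20, 25, 24, 23, 22, 21,
    26, 27, 31, 29, 30, 28, 33, 32, 34, 35],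
  [5, 1, 3, 2, 4, 0, 11, 7, 9, 8, 10, 6, 12, 15, 14, 13, 16, 19, 18, 17, 25, 21, 23, 22, 24, 20,
    26, 27, 28, 31, 30, 29, 34, 33, 32, 35],
  [4, 3, 2, 1, 0, 5, 10, 9, 8, 7, 6, 11, 12, 13, 15, 14, 16, 17, 19, 18, 24, 23, 22, 21, 20, 25,
    26, 27, 28, 29, 31, 30, 35, 33, 34, 32],
  [0, 8, 7, 3, 11, 10, 6, 2, 1, 9, 5, 4, 12, 18, 17, 15, 16, 14, 13, 19, 26, 21, 22, 27, 24, 25,
    20, 23, 32, 29, 30, 33, 28, 31, 34, 35],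
  [8, 1, 6, 11, 4, 9, 2, 7, 0, 5, 10, 3, 18, 13, 16, 15, 14, 17, 12, 19, 20, 26, 22, 23, 27, 25,
    21, 24, 28, 32, 30, 34, 29, 33, 31, 35],
  [7, 6, 2, 10, 9, 5, 1, 0, 8, 4, 3, 11, 17, 16, 14, 15, 13, 12, 18, 19, 20, 21, 26, 23, 24, 27,
    22, 25, 28, 29, 32, 35, 30, 33, 34, 31],
  [0, 11, 10, 3, 8, 7, 6, 5, 4, 9, 2, 1, 19, 13, 14, 16, 15, 17, 18, 12, 27, 21, 22, 26, 24, 25,
    23, 20, 28, 35, 34, 31, 32, 33, 30, 29],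
  [11, 1, 9, 8, 4, 6, 5, 7, 3, 2, 10, 0, 12, 19, 14, 17, 16, 15, 18, 13, 20, 27, 22, 23, 26, 25,
    24, 21, 35, 29, 33, 31, 32, 30, 34, 28],
  [10, 9, 2, 7, 6, 5, 4, 3, 8, 1, 0, 11, 12, 13, 19, 18, 16, 17, 15, 14, 20, 21, 27, 23, 24, 26,
    25, 22, 34, 33, 30, 31, 32, 29, 28, 35],
  [0, 14, 13, 15, 4, 5, 6, 18, 17, 19, 10, 11, 12, 2, 1, 3, 16, 8, 7, 9, 20, 30, 29, 31, 24, 25,
    26, 33, 28, 22, 21, 23, 32, 27, 34, 35],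
  [14, 1, 12, 3, 15, 5, 18, 7, 16, 9, 19, 11, 2, 13, 0, 4, 8, 17, 6, 10, 30, 21, 28, 23, 31, 25,
    26, 34, 22, 29, 20, 24, 32, 33, 27, 35],
  [13, 12, 2, 3, 4, 15, 17, 16, 8, 9, 10, 19, 1, 0, 14, 5, 7, 6, 18, 11, 29, 28, 22, 23, 24, 31,
    26, 35, 21, 20, 30, 25, 32, 33, 34, 27],
  [0, 1, 2, 12, 13, 14, 6, 7, 8, 16, 17, 18, 3, 4, 5, 15, 9, 10, 11, 19, 20, 21, 22, 28, 29, 30,
    26, 32, 23, 24, 25, 31, 27, 33, 34, 35],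
  [0, 18, 17, 19, 4, 5, 6, 14, 13, 15, 10, 11, 12, 8, 7, 9, 16, 2, 1, 3, 32, 21, 22, 23, 35, 34,
    28, 27, 26, 29, 30, 31, 20, 33, 25, 24],
  [18, 1, 16, 3, 19, 5, 14, 7, 12, 9, 15, 11, 8, 13, 6, 10, 2, 17, 0, 4, 20, 32, 22, 35, 24, 33,
    29, 27, 28, 26, 30, 31, 21, 25, 34, 23],
  [17, 16, 2, 3, 4, 19, 13, 12, 8, 9, 10, 15, 7, 6, 14, 11, 1, 0, 18, 5, 20, 21, 32, 34, 33, 25,
    30, 27, 28, 29, 26, 31, 22, 24, 23, 35],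
  [0, 1, 2, 16, 17, 18, 6, 7, 8, 12, 13, 14, 9, 10, 11, 15, 3, 4, 5, 19, 33, 34, 35, 23, 24, 25,
    31, 27, 28, 29, 30, 26, 32, 20, 21, 22],
  [0, 22, 21, 3, 25, 24, 26, 7, 8, 27, 10, 11, 12, 30, 29, 15, 32, 17, 18, 33, 20, 2, 1, 23, 5,
    4, 6, 9, 28, 14, 13, 31, 16, 19, 34, 35],
  [22, 1, 20, 25, 4, 23, 6, 26, 8, 9, 27, 11, 30, 13, 28, 15, 16, 32, 18, 34, 2, 21, 0, 5, 24, 3,
    7, 10, 14, 29, 12, 31, 17, 33, 19, 35],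
  [21, 20, 2, 24, 23, 5, 6, 7, 26, 9, 10, 27, 29, 28, 14, 15, 16, 17, 32, 35, 1, 0, 22, 4, 3, 25,
    8, 11, 13, 12, 30, 31, 18, 33, 34, 19],
  [0, 25, 24, 3, 22, 21, 27, 7, 8, 26, 10, 11, 31, 13, 14, 28, 16, 35, 34, 19, 20, 5, 4, 23, 2,
    1, 9, 6, 15, 29, 30, 12, 32, 33, 18, 17],
  [25, 1, 23, 22, 4, 20, 6, 27, 8, 9, 26, 11, 12, 31, 14, 29, 35, 17, 33, 19, 5, 21, 3, 2, 24, 0,
    10, 7, 28, 15, 30, 13, 32, 18, 34, 16],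
  [24, 23, 2, 21, 20, 5, 6, 7, 27, 9, 10, 26, 12, 13, 31, 30, 34, 33, 18, 19, 4, 3, 22, 1, 0, 25,
    11, 8, 28, 29, 15, 14, 32, 17, 16, 35],
  [0, 1, 2, 3, 4, 5, 20, 21, 22, 23, 24, 25, 12, 13, 14, 15, 28, 29, 30, 31, 6, 7, 8, 9, 10, 11,
    26, 27, 16, 17, 18, 19, 32, 33, 34, 35],
  [0, 1, 2, 3, 4, 5, 23, 24, 25, 20, 21, 22, 33, 34, 35, 32, 16, 17, 18, 19, 9, 10, 11, 6, 7, 8,
    26, 27, 28, 29, 30, 31, 15, 12, 13, 14],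
  [0, 30, 29, 31, 4, 5, 32, 7, 8, 9, 35, 34, 12, 22, 21, 23, 26, 17, 18, 19, 20, 14, 13, 15, 24,
    25, 16, 27, 28, 2, 1, 3, 6, 33, 11, 10],
  [30, 1, 28, 3, 31, 5, 6, 32, 8, 35, 10, 33, 22, 13, 20, 24, 16, 26, 18, 19, 14, 21, 12, 23, 15,
    25, 17, 27, 2, 29, 0, 4, 7, 11, 34, 9],
  [29, 28, 2, 3, 4, 31, 6, 7, 32, 34, 33, 11, 21, 20, 14, 25, 16, 17, 26, 19, 13, 12, 22, 23, 24,
    15, 18, 27, 1, 0, 30, 5, 8, 10, 9, 35],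
  [0, 1, 2, 28, 29, 30, 33, 34, 35, 9, 10, 11, 23, 24, 25, 15, 16, 17, 18, 26, 20, 21, 22, 12,
    13, 14, 19, 27, 3, 4, 5, 31, 32, 6, 7, 8],
  [0, 1, 2, 33, 34, 35, 28, 29, 30, 9, 10, 11, 12, 13, 14, 27, 20, 21, 22, 19, 16, 17, 18, 23,
    24, 25, 26, 15, 6, 7, 8, 31, 32, 3, 4, 5],
  [0, 35, 34, 32, 4, 5, 31, 7, 8, 9, 30, 29, 27, 13, 14, 15, 16, 25, 24, 20, 19, 21, 22, 23, 18,
    17, 26, 12, 28, 11, 10, 6, 3, 33, 2, 1],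
  [35, 1, 33, 3, 32, 5, 6, 31, 8, 30, 10, 28, 12, 27, 14, 15, 25, 17, 23, 21, 20, 19, 22, 18, 24,
    16, 26, 13, 11, 29, 9, 7, 4, 2, 34, 0],
  [34, 33, 2, 3, 4, 32, 6, 7, 31, 29, 28, 11, 12, 13, 27, 15, 24, 23, 18, 22, 20, 21, 19, 17, 16,
    25, 26, 14, 10, 9, 30, 8, 5, 1, 0, 35]]

/-- The reflected member. -/
def third (i j : Fin 36) : Fin 36 :=
  Fin.ofNat 36 ((thirdList.getD i []).getD j 0)

/-- The elliptic form, by coordinates. -/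
def e2 (x : I → ZMod 2) : ZMod 2 :=
  x (.inl (.inl 0)) * x (.inl (.inr 0)) + x (.inl (.inl 1)) * x (.inl (.inr 1)) +
    (x (.inr 0) * x (.inr 0) + x (.inr 0) * x (.inr 1) + x (.inr 1) * x (.inr 1))

/-- Its polar form. -/
def p2 (x y : I → ZMod 2) : ZMod 2 :=
  x (.inl (.inl 0)) * y (.inl (.inr 0)) + y (.inl (.inl 0)) * x (.inl (.inr 0)) +
    (x (.inl (.inl 1)) * y (.inl (.inr 1)) + y (.inl (.inl 1)) * x (.inl (.inr 1))) +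
      (x (.inr 0) * y (.inr 1) + y (.inr 0) * x (.inr 1))

/-- The ternary form. -/
def e3 (x : Fin 5 → ZMod 3) : ZMod 3 :=
  x 0 * x 0 + x 1 * x 1 + x 2 * x 2 + x 3 * x 3 - x 4 * x 4

/-- Its polar form. -/
def p3 (x y : Fin 5 → ZMod 3) : ZMod 3 :=
  2 * (x 0 * y 0 + x 1 * y 1 + x 2 * y 2 + x 3 * y 3 - x 4 * y 4)

theorem e2_v2 : ∀ i, e2 (v2 i) = 1 := by decide +kernel

theorem e3_v3 : ∀ i, e3 (v3 i) = 1 := by decide +kernel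

theorem v2_complete : ∀ x : I → ZMod 2, e2 x = 1 → ∃ i, v2 i = x := by decide +kernel

theorem v3_complete : ∀ x : Fin 5 → ZMod 3, e3 x = 1 → ∃ i, v3 i = x ∨ v3 i = -x := by
  decide +kernel

theorem v2_injective : ∀ i j, v2 i = v2 j → i = j := by decide +kernel

theorem v3_injective : ∀ i j, v3 i = v3 j ∨ v3 i = -v3 j → i = j := by decide +kernel

theorem third_two : ∀ i j, v2 (third i j) = v2 j + p2 (v2 i) (v2 j) • v2 i := by decide +kernel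

theorem third_three : ∀ i j, v3 (third i j) = v3 j - p3 (v3 i) (v3 j) • v3 i ∨
    v3 (third i j) = -(v3 j - p3 (v3 i) (v3 j) • v3 i) := by decide +kernel

theorem spanning : ∀ s : I, ∃ i j, Pi.single s (1 : ZMod 2) = v2 i ∨
    Pi.single s (1 : ZMod 2) = v2 i + v2 j := by decide +kernel

end Cfsg.Agent.H97.Minus
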